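import Mathlib
import Groth.Agent.RegUFDLib.Basic
import Groth.Agent.CohenLib.RegularField
import Groth.Agent.PerfectFieldLib.FormallySmooth

/-! Logarithmic differentials in a regular local domain in characteristic zero. -/

set_option autoImplicit false
universe u
open IsLocalRing TensorProduct

namespace Groth.Agent.DlogLib

variable (k : Type u) {K : Type u} [Field k] [Field K] [Algebra k K]

noncomputable def dl (x : K) : Ω[K⁄k] := x⁻¹ • KaehlerDifferential.D k K x

theorem dl_mul {x y : K} (hx : x ≠ 0) (hy : y ≠ 0) : dl k (x * y) = dl k x + dl k y := by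
  simp only [dl, Derivation.leibniz, smul_add, smul_smul]
  rw [show (x * y)⁻¹ * x = y⁻¹ by field_simp, show (x * y)⁻¹ * y = x⁻¹ by field_simp, add_comm]

theorem dl_one : dl k (1 : K) = 0 := by simp [dl]

variable {R : Type u} [CommRing R] [IsDomain R] [Algebra k R] [Algebra R K] [IsScalarTower k R K] [IsFractionRing R K]

theorem ne_zero {x : R} (hx : x ≠ 0) : algebraMap R K x ≠ 0 := fun h =>
  hx (IsFractionRing.injective R K (h.trans (map_zero _).symm))

variable [Algebra.FormallySmooth k R] [IsNoetherianRing R]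

theorem map_injective : Function.Injective (KaehlerDifferential.map k k R K) := by
  haveI : Module.Projective R Ω[R⁄k] := inferInstance
  rw [injective_iff_map_eq_zero]
  intro x hx
  obtain ⟨c, hc⟩ := (IsLocalizedModule.eq_zero_iff (nonZeroDivisors R) (KaehlerDifferential.map k k R K)).1 hx
  obtain ⟨P, hP⟩ := Module.projective_def.1 (inferInstance : Module.Projective R Ω[R⁄k])
  have h1 : P (c.1 • x) = 0 := by
    rw [show c.1 • x = 0 from hc, map_zero]
  rw [map_smul, smul_eq_zero] at h1
  rcases h1 with h1 | h1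
  · exact absurd h1 (nonZeroDivisors.ne_zero c.2)
  · rw [← hP x, h1, map_zero]

theorem not_dvd_of_smul_D [CharZero k] {q : R} (hq : Prime q) {s : R} (hs : ¬ q ∣ s) {n : ℤ} (hn : n ≠ 0)
    (ω : Ω[R⁄k]) : (n * s : R) • KaehlerDifferential.D k R q ≠ q • ω := by
  intro h
  haveI hP : (Ideal.span {q}).IsPrime := (Ideal.span_singleton_prime hq.ne_zero).2 hq
  let T := Localization.AtPrime (Ideal.span {q})
  haveI : Algebra.FormallySmooth R T := Algebra.FormallySmooth.of_isLocalization (Ideal.span {q}).primeCompl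
  haveI : Algebra.FormallySmooth k T := Algebra.FormallySmooth.comp k R T
  let L := ResidueField T
  haveI : CharZero L := charZero_of_injective_algebraMap (algebraMap k L).injective
  haveI : Algebra.FormallySmooth k L := PerfectFieldLib.formallySmooth_of_perfectField k L
  have hsurj : Function.Surjective (algebraMap T L) := IsLocalRing.residue_surjective
  have hinj := (Algebra.FormallySmooth.kerCotangentToTensor_injective_iff (R := k) hsurj).2 inferInstance
  have hqm : algebraMap R T q ∈ RingHom.ker (algebraMap T L) := by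
    rw [show RingHom.ker (algebraMap T L) = maximalIdeal T from IsLocalRing.ker_residue,
      IsLocalization.AtPrime.to_map_mem_maximal_iff T (Ideal.span {q})]
    exact Ideal.mem_span_singleton_self q
  have hu : IsUnit (algebraMap T L (algebraMap R T (n * s))) := by
    have hnu : ∀ m : ℤ, m ≠ 0 → ¬ q ∣ (m : R) := fun m hm hd => by
      obtain ⟨r, hr⟩ := hd
      have hmu : IsUnit (m : R) := by
        rw [← map_intCast (algebraMap k R)]
        exact (IsUnit.mk0 _ (Int.cast_ne_zero.2 hm)).map _
      exact hq.not_unit (isUnit_of_mul_isUnit_left (hr ▸ hmu))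
    refine (IsUnit.map _ ?_)
    refine IsLocalization.map_units T (⟨(n : R) * s, fun hm => ?_⟩ : (Ideal.span {q}).primeCompl)
    rcases hq.dvd_or_dvd (Ideal.mem_span_singleton.1 hm) with h1 | h1
    · exact hnu n hn h1
    · exact hs h1
  have h1 : (1 : L) ⊗ₜ[T] KaehlerDifferential.D k T (algebraMap R T q) = 0 := by
    have h2 := congrArg (fun z => (1 : L) ⊗ₜ[T] KaehlerDifferential.map k k R T z) h
    simp only [map_smul, KaehlerDifferential.map_D] at h2
    rw [← algebraMap_smul T (n * s : R), ← algebraMap_smul T q, ← TensorProduct.smul_tmul, ← TensorProduct.smul_tmul,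
      Algebra.smul_def (algebraMap R T q) (1 : L), RingHom.mem_ker.1 hqm, zero_mul, TensorProduct.zero_tmul,
      Algebra.smul_def, mul_one] at h2
    have h3 := congrArg (fun z => ((hu.unit⁻¹ : Lˣ) : L) • z) h2
    simp only [smul_zero, TensorProduct.smul_tmul', smul_eq_mul, IsUnit.val_inv_mul] at h3
    exact h3
  have h4 : (RingHom.ker (algebraMap T L)).toCotangent ⟨_, hqm⟩ = 0 := hinj (by
    rw [map_zero, KaehlerDifferential.kerCotangentToTensor_toCotangent]
    exact h1)
  have h4' : algebraMap R T q ∈ (RingHom.ker (algebraMap T L)) ^ 2 := (Ideal.toCotangent_eq_zero _ _).1 h4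
  rw [show RingHom.ker (algebraMap T L) = maximalIdeal T from IsLocalRing.ker_residue,
    ← Localization.AtPrime.map_eq_maximalIdeal, Ideal.map_span, Set.image_singleton, Ideal.span_singleton_pow,
    Ideal.mem_span_singleton] at h4'
  obtain ⟨t, ht⟩ := h4'
  have hq0 : algebraMap R T q ≠ 0 := fun h0 => hq.ne_zero
    (IsLocalization.injective (M := (Ideal.span {q}).primeCompl) T (Ideal.primeCompl_le_nonZeroDivisors _) (h0.trans (map_zero _).symm))
  have h5 : algebraMap R T q * t = 1 :=
    mul_left_cancel₀ hq0 (by linear_combination -ht)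
  exact (IsLocalRing.mem_maximalIdeal _).1 ((IsLocalization.AtPrime.to_map_mem_maximal_iff T (Ideal.span {q}) q).2
    (Ideal.mem_span_singleton_self q)) (IsUnit.of_mul_eq_one _ h5)

/-- forms regular at `q` after multiplication by an element prime to `q`. -/
noncomputable def regAt {q : R} (hq : Prime q) : AddSubgroup Ω[K⁄k] where
  carrier := {z | ∃ s : R, ¬ q ∣ s ∧ ∃ ω : Ω[R⁄k], s • z = KaehlerDifferential.map k k R K ω}
  add_mem' := fun {a b} ⟨s, hs, ω, hω⟩ ⟨t, ht, θ, hθ⟩ => ⟨s * t, fun hd => (hq.dvd_or_dvd hd).elim hs ht,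
    t • ω + s • θ, by rw [map_add, map_smul, map_smul, ← hω, ← hθ, smul_add, smul_smul, smul_smul, mul_comm t s]⟩
  zero_mem' := ⟨1, fun hd => hq.not_unit (isUnit_of_dvd_one hd), 0, by simp⟩
  neg_mem' := fun {a} ⟨s, hs, ω, hω⟩ => ⟨s, hs, -ω, by rw [map_neg, ← hω, smul_neg]⟩

theorem smul_mem_regAt {q : R} (hq : Prime q) (c : R) {z : Ω[K⁄k]} (hz : z ∈ regAt k hq) :
    c • z ∈ regAt k hq := by
  obtain ⟨s, hs, ω, hω⟩ := hz
  exact ⟨s, hs, c • ω, by rw [map_smul, ← hω, smul_comm]⟩

theorem dl_mem_regAt {q : R} (hq : Prime q) {x : R} (hx : ¬ q ∣ x) :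
    dl k (algebraMap R K x) ∈ regAt k hq := by
  refine ⟨x, hx, KaehlerDifferential.D k R x, ?_⟩
  have h0 : x ≠ 0 := fun h => hx (h ▸ dvd_zero q)
  rw [dl, KaehlerDifferential.map_D, ← algebraMap_smul K x, smul_smul, mul_inv_cancel₀ (ne_zero h0), one_smul]

theorem eq_zero_of_mem_regAt [CharZero k] {q : R} (hq : Prime q) {n : ℤ}
    (h : n • dl k (algebraMap R K q) ∈ regAt k hq) : n = 0 := by
  by_contra hn
  obtain ⟨s, hs, ω, hω⟩ := h
  refine not_dvd_of_smul_D k hq hs hn ω (map_injective k (K := K) ?_)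
  rw [map_smul, map_smul, ← hω, KaehlerDifferential.map_D, dl, ← Int.cast_smul_eq_zsmul K,
    ← algebraMap_smul K (n * s : R), ← algebraMap_smul K q, ← algebraMap_smul K s, smul_smul, smul_smul, smul_smul]
  congr 1
  have := ne_zero (K := K) hq.ne_zero
  rw [map_mul, map_intCast]
  field_simp

variable {r : ℕ} (f : Fin r → R)

/-- logarithmic differentials of units and of the given elements. -/
noncomputable def logGroup (hf : ∀ i, f i ≠ 0) : AddSubgroup Ω[K⁄k] where
  carrier := {z | ∃ (v : Rˣ) (b : Fin r → ℤ),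
    z = dl k (algebraMap R K v) + ∑ i, b i • dl k (algebraMap R K (f i))}
  add_mem' := fun {a b} ⟨v, x, hx⟩ ⟨w, y, hy⟩ => ⟨v * w, x + y, by
    rw [hx, hy, Units.val_mul, map_mul, dl_mul k (ne_zero v.ne_zero) (ne_zero w.ne_zero)]
    simp only [Pi.add_apply, add_smul, Finset.sum_add_distrib]
    abel⟩
  zero_mem' := ⟨1, 0, by simp [dl_one]⟩
  neg_mem' := fun {a} ⟨v, x, hx⟩ => ⟨v⁻¹, -x, by
    have : dl k (algebraMap R K ↑v⁻¹) = - dl k (algebraMap R K v) := by
      refine eq_neg_of_add_eq_zero_left ?_
      rw [← dl_mul k (ne_zero v⁻¹.ne_zero) (ne_zero v.ne_zero), ← map_mul, Units.inv_mul, map_one, dl_one]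
    rw [hx, this]
    simp only [Pi.neg_apply, neg_smul, Finset.sum_neg_distrib]
    abel⟩

theorem dl_unit_mem (hf : ∀ i, f i ≠ 0) {v : R} (hv : IsUnit v) :
    dl k (algebraMap R K v) ∈ logGroup k f hf (K := K) :=
  ⟨hv.unit, 0, by simp⟩

theorem dl_f_mem (hf : ∀ i, f i ≠ 0) (i : Fin r) : dl k (algebraMap R K (f i)) ∈ logGroup k f hf (K := K) := by
  classical
  refine ⟨1, Pi.single i 1, ?_⟩
  simp [dl_one, Pi.single_apply, ite_smul]

theorem mem_logGroup [CharZero k] [UniqueFactorizationMonoid R] (hf : ∀ i, Prime (f i)) (g : K) (hg : g ≠ 0)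
    (η : Ω[R⁄k]) (c : Fin r → R)
    (h : dl k g = KaehlerDifferential.map k k R K η + ∑ i, c i • dl k (algebraMap R K (f i))) :
    dl k g ∈ logGroup k f (fun i => (hf i).ne_zero) (K := K) := by
  classical
  letI : StrongNormalizationMonoid R := Classical.choice inferInstance
  obtain ⟨a, b, hb, rfl⟩ := IsFractionRing.div_surjective (A := R) g
  have ha0 : a ≠ 0 := fun h0 => hg (by rw [h0, map_zero, zero_div])
  have hb0 : b ≠ 0 := nonZeroDivisors.ne_zero hb
  have hfac : ∀ x : R, x ≠ 0 → ∃ u : R, IsUnit u ∧ dl k (algebraMap R K x) = dl k (algebraMap R K u) +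
      ∑ q ∈ (UniqueFactorizationMonoid.normalizedFactors x).toFinset,
        ((UniqueFactorizationMonoid.normalizedFactors x).count q : ℤ) • dl k (algebraMap R K q) := by
    intro x hx
    obtain ⟨u, hu⟩ := UniqueFactorizationMonoid.prod_normalizedFactors hx
    have key : ∀ s : Multiset R, (∀ q ∈ s, q ≠ 0) →
        dl k (algebraMap R K s.prod) = (s.map fun q => dl k (algebraMap R K q)).sum := by
      intro s
      induction s using Multiset.induction_on with
      | empty => simp [dl_one]
      | cons q s ih =>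
        intro hs
        have h2 : s.prod ≠ 0 := fun h0 => by
          rw [Multiset.prod_eq_zero_iff] at h0
          exact hs 0 (Multiset.mem_cons_of_mem h0) rfl
        rw [Multiset.prod_cons, map_mul, dl_mul k (ne_zero (hs q (Multiset.mem_cons_self q s))) (ne_zero h2),
          ih fun y hy => hs y (Multiset.mem_cons_of_mem hy), Multiset.map_cons, Multiset.sum_cons]
    have hne : ∀ q ∈ UniqueFactorizationMonoid.normalizedFactors x, q ≠ 0 := fun q hq =>
      (UniqueFactorizationMonoid.prime_of_normalized_factor q hq).ne_zero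
    refine ⟨u, u.isUnit, ?_⟩
    conv_lhs => rw [← hu]
    have h0 : (UniqueFactorizationMonoid.normalizedFactors x).prod ≠ 0 := fun h0 => by
      rw [Multiset.prod_eq_zero_iff] at h0
      exact hne 0 h0 rfl
    rw [map_mul, dl_mul k (ne_zero h0) (ne_zero u.ne_zero), key _ hne, Finset.sum_multiset_map_count, add_comm]
    simp only [natCast_zsmul]
  obtain ⟨ua, hua, ea⟩ := hfac a ha0
  obtain ⟨ub, hub, eb⟩ := hfac b hb0
  let Fa := UniqueFactorizationMonoid.normalizedFactors a
  let Fb := UniqueFactorizationMonoid.normalizedFactors b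
  let Q : Finset R := Fa.toFinset ∪ Fb.toFinset
  let N : R → ℤ := fun q => (Fa.count q : ℤ) - Fb.count q
  have hdl : dl k (algebraMap R K a / algebraMap R K b) = (dl k (algebraMap R K ua) - dl k (algebraMap R K ub)) +
      ∑ q ∈ Q, N q • dl k (algebraMap R K q) := by
    have h1 : dl k (algebraMap R K a) = dl k (algebraMap R K a / algebraMap R K b) + dl k (algebraMap R K b) := by
      rw [← dl_mul k hg (ne_zero hb0), div_mul_cancel₀ _ (ne_zero hb0)]
    rw [eq_sub_of_add_eq h1.symm, ea, eb]
    have sA : ∀ F : Multiset R, F.toFinset ⊆ Q → ∑ q ∈ F.toFinset, (F.count q : ℤ) • dl k (algebraMap R K q) =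
        ∑ q ∈ Q, (F.count q : ℤ) • dl k (algebraMap R K q) := fun F hF =>
      Finset.sum_subset hF fun q _ hq => by
        rw [Multiset.count_eq_zero.2 fun hm => hq (Multiset.mem_toFinset.2 hm), Nat.cast_zero, zero_smul]
    rw [sA Fa Finset.subset_union_left, sA Fb Finset.subset_union_right]
    simp only [N, sub_smul, Finset.sum_sub_distrib]
    abel
  have hQ : ∀ q ∈ Q, Prime q ∧ normalize q = q := fun q hq => by
    rcases Finset.mem_union.1 hq with h1 | h1 <;> rw [Multiset.mem_toFinset] at h1 <;>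
      exact ⟨UniqueFactorizationMonoid.prime_of_normalized_factor q h1,
        UniqueFactorizationMonoid.normalize_normalized_factor q h1⟩
  rw [hdl]
  refine add_mem (sub_mem (dl_unit_mem k f _ hua) (dl_unit_mem k f _ hub)) (sum_mem fun q hq => ?_)
  by_cases hass : ∃ i, Associated (f i) q
  · obtain ⟨i, w, hw⟩ := hass
    refine zsmul_mem ?_ _
    rw [← hw, map_mul, dl_mul k (ne_zero (hf i).ne_zero) (ne_zero w.ne_zero)]
    exact add_mem (dl_f_mem k f _ i) (dl_unit_mem k f _ w.isUnit)
  · push Not at hass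
    have hqp := (hQ q hq).1
    have hnd : ∀ x : R, IsUnit x → ¬ q ∣ x := fun x hx hd => hqp.not_unit (isUnit_of_dvd_unit hd hx)
    have hfi : ∀ i, ¬ q ∣ f i := fun i hd => hass i (hqp.associated_of_dvd (hf i) hd).symm
    have : N q • dl k (algebraMap R K q) ∈ regAt k hqp (K := K) := by
      have e : N q • dl k (algebraMap R K q) = KaehlerDifferential.map k k R K η
          + ∑ i, c i • dl k (algebraMap R K (f i))
          - (dl k (algebraMap R K ua) - dl k (algebraMap R K ub))
          - ∑ q' ∈ Q.erase q, N q' • dl k (algebraMap R K q') := by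
        rw [← h, hdl, ← Finset.add_sum_erase _ _ hq]
        abel
      rw [e]
      refine sub_mem (sub_mem (add_mem ?_ (sum_mem fun i _ => smul_mem_regAt k hqp _ (dl_mem_regAt k hqp (hfi i))))
        (sub_mem (dl_mem_regAt k hqp (hnd _ hua)) (dl_mem_regAt k hqp (hnd _ hub))))
        (sum_mem fun q' hq' => zsmul_mem (dl_mem_regAt k hqp fun hd => ?_) _)
      · exact ⟨1, hnd 1 isUnit_one, η, one_smul _ _⟩
      · obtain ⟨hne, hq'Q⟩ := Finset.mem_erase.1 hq'
        have hA : Associated q q' := hqp.associated_of_dvd (hQ q' hq'Q).1 hd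
        have := normalize_eq_normalize hA.dvd hA.symm.dvd
        rw [(hQ q hq).2, (hQ q' hq'Q).2] at this
        exact hne this.symm
    rw [eq_zero_of_mem_regAt k hqp this, zero_smul]
    exact zero_mem _

end Groth.Agent.DlogLib
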